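import Mathlib.FieldTheory.Minpoly.Field
import Mathlib.RingTheory.AdjoinRoot
import Mathlib.FieldTheory.Finite.Basic
import Mathlib.LinearAlgebra.FiniteDimensional.Basic
import Mathlib.RingTheory.IntegralDomain

/-!
If the powers of a linear map of order `q` over `ZMod p` are permuted by linear bijections which
are transitive on non-zero vectors, then `p` is a primitive root modulo `q`.
-/

set_option linter.style.haveILetI false
set_option linter.unusedSectionVars false

namespace Cfsg.Lib.ThreeOrbits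

open Polynomial

theorem orderOf_eq_sub_one {p q : ℕ} [hp : Fact p.Prime] [hq : Fact q.Prime] (hpq : p ≠ q)
    {V : Type*} [AddCommGroup V] [Module (ZMod p) V] [Module.Finite (ZMod p) V] [Nontrivial V]
    (X : Module.End (ZMod p) V) (hXq : X ^ q = 1) (hX1 : X ≠ 1)
    (htrans : ∀ v w : V, v ≠ 0 → w ≠ 0 → ∃ (j : ℕ) (α : V ≃ₗ[ZMod p] V),
      α v = w ∧ ∀ u, α (X u) = (X ^ j) (α u))
    (hgal : ∀ j : ℕ, ¬ q ∣ j → ∃ α : V ≃ₗ[ZMod p] V, ∀ u, α (X u) = (X ^ j) (α u)) :
    orderOf (p : ZMod q) = q - 1 := by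
  have hint : IsIntegral (ZMod p) X := Algebra.IsIntegral.isIntegral X
  set μ := minpoly (ZMod p) X with hμ
  have hconj : ∀ (α : V ≃ₗ[ZMod p] V) (Y : Module.End (ZMod p) V), (∀ u, α (X u) = Y (α u)) →
      ∀ (r : (ZMod p)[X]) (u : V), α (aeval X r u) = aeval Y r (α u) := by
    intro α Y h r
    induction r using Polynomial.induction_on with
    | C a => intro u; simp [Module.algebraMap_end_apply]
    | add r s hr hs => intro u; simp [hr, hs]
    | monomial n a ih =>
      intro u
      rw [pow_succ, ← mul_assoc]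
      simp only [map_mul (aeval X) (_ : (ZMod p)[X]) Polynomial.X, map_mul (aeval Y) (_ : (ZMod p)[X]) Polynomial.X,
        aeval_X, Module.End.mul_apply, ih, h]
  -- the annihilator of each vector is prime
  obtain ⟨f, g, hfirr, hfg⟩ : ∃ f g : (ZMod p)[X], Irreducible f ∧ μ = f * g := by
    obtain ⟨f, hf, g, hg⟩ := WfDvdMonoid.exists_irreducible_factor (minpoly.not_isUnit (ZMod p) X)
      (minpoly.ne_zero hint)
    exact ⟨f, g, hf, hg⟩
  have hg0 : aeval X g ≠ 0 := by
    intro h
    obtain ⟨c, hc⟩ := minpoly.dvd (ZMod p) X h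
    have hg : g ≠ 0 := fun h0 => minpoly.ne_zero hint (by rw [← hμ, hfg, h0, mul_zero])
    have h2 : g * (f * c) = g * 1 := by
      rw [mul_one, ← mul_assoc, mul_comm g f, ← hfg, hμ, ← hc]
    exact hfirr.not_isUnit (IsUnit.of_mul_eq_one c (mul_left_cancel₀ hg h2))
  obtain ⟨v, hv⟩ : ∃ v, aeval X g v ≠ 0 := by
    by_contra h
    push Not at h
    exact hg0 (LinearMap.ext h)
  set v₀ := aeval X g v with hv₀
  have hfv : aeval X f v₀ = 0 := by
    rw [hv₀, ← Module.End.mul_apply, ← map_mul, ← hfg, minpoly.aeval]; rfl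
  have hann : ∀ r : (ZMod p)[X], aeval X r v₀ = 0 → f ∣ r := by
    intro r hr
    by_contra hnd
    obtain ⟨a, b, hab⟩ := (hfirr.coprime_iff_not_dvd.mpr hnd)
    have := congrArg (fun s => aeval X s v₀) hab
    simp [Module.End.mul_apply, hfv, hr] at this
    exact hv this.symm
  have hprime : ∀ w : V, ∀ a b : (ZMod p)[X], aeval X (a * b) w = 0 →
      aeval X a w = 0 ∨ aeval X b w = 0 := by
    intro w a b hab
    by_cases hw : w = 0
    · exact Or.inl (by simp [hw])
    obtain ⟨j, α, hαv, hα⟩ := htrans v₀ w hv hw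
    obtain ⟨k, hk⟩ : ∃ k : ℕ, ∀ u, (X ^ (j * k)) u = X u := by
      have hj : ¬ q ∣ j := by
        rintro ⟨c, rfl⟩
        refine hX1 (LinearMap.ext fun u => α.injective ?_)
        rw [hα u, pow_mul, hXq, one_pow]
        rfl
      obtain ⟨k, hk⟩ := Nat.exists_mul_mod_eq_one_of_coprime
        (Nat.Coprime.symm (hq.out.coprime_iff_not_dvd.mpr hj)) hq.out.one_lt
      exact ⟨k, fun u => by
        rw [← Nat.mod_add_div (j * k) q, hk.2, pow_add, pow_mul, hXq, one_pow, mul_one, pow_one]⟩
    have hpull : ∀ r : (ZMod p)[X], aeval X r w = α (aeval X (r.comp (Polynomial.X ^ k)) v₀) := by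
      intro r
      rw [hconj α (X ^ j) hα, hαv, aeval_comp]
      simp only [map_pow, aeval_X, ← pow_mul]
      rw [show X ^ (j * k) = X from LinearMap.ext hk]
    rw [hpull, LinearEquiv.map_eq_zero_iff, mul_comp] at hab
    rcases hfirr.prime.dvd_or_dvd (hann _ hab) with h | h
    · left
      obtain ⟨c, hc⟩ := h
      rw [hpull, hc, mul_comm, map_mul, Module.End.mul_apply, hfv, map_zero, map_zero]
    · right
      obtain ⟨c, hc⟩ := h
      rw [hpull, hc, mul_comm, map_mul, Module.End.mul_apply, hfv, map_zero, map_zero]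
  have hfX : aeval X f = 0 := by
    by_contra hne
    obtain ⟨w₁, hw₁⟩ : ∃ w, aeval X f w ≠ 0 := by
      by_contra h
      push Not at h
      exact hne (LinearMap.ext h)
    obtain ⟨w₂, hw₂⟩ : ∃ w, aeval X g w ≠ 0 := ⟨v, hv⟩
    have hzero : ∀ w, aeval X f w = 0 ∨ aeval X g w = 0 := fun w =>
      hprime w f g (by rw [← hfg, minpoly.aeval]; rfl)
    rcases hzero (w₁ + w₂) with h | h
    · rw [map_add, (hzero w₂).resolve_right hw₂, add_zero] at h
      exact hw₁ h
    · rw [map_add, (hzero w₁).resolve_left hw₁, zero_add] at h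
      exact hw₂ h
  haveI : Fact (Irreducible f) := ⟨hfirr⟩
  let K := AdjoinRoot f
  set ζ : K := AdjoinRoot.root f with hζ
  have heval : ∀ r : (ZMod p)[X], aeval X r = 0 → aeval ζ r = 0 := by
    intro r hr
    rw [hζ, AdjoinRoot.aeval_eq, AdjoinRoot.mk_eq_zero]
    exact hann r (by rw [hr]; rfl)
  have hζq : ζ ^ q = 1 := by
    have := heval (Polynomial.X ^ q - 1) (by rw [map_sub, map_pow, aeval_X, map_one, hXq, sub_self])
    rwa [map_sub, map_pow, aeval_X, map_one, sub_eq_zero] at this
  have hζ1 : ζ ≠ 1 := fun h => by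
    have h1 : f ∣ Polynomial.X - 1 := by
      rw [← AdjoinRoot.mk_eq_zero, ← AdjoinRoot.aeval_eq, map_sub, aeval_X, map_one, ← hζ, h, sub_self]
    obtain ⟨c, hc⟩ := h1
    refine hX1 (sub_eq_zero.mp ?_)
    have h2 : aeval X (Polynomial.X - 1 : (ZMod p)[X]) = 0 := by rw [hc, map_mul, hfX, zero_mul]
    rwa [map_sub, aeval_X, map_one] at h2
  have hζo : orderOf ζ = q := orderOf_eq_prime hζq hζ1
  have hroots : ∀ i : Fin (q - 1), aeval (ζ ^ (i.val + 1)) f = 0 := by
    intro i
    obtain ⟨α, hα⟩ := hgal (i.val + 1) (Nat.not_dvd_of_pos_of_lt (by omega) (by have := i.isLt; omega))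
    have h1 : aeval X (f.comp (Polynomial.X ^ (i.val + 1))) = 0 := LinearMap.ext fun u => by
      obtain ⟨u, rfl⟩ := α.surjective u
      rw [aeval_comp, map_pow, aeval_X, ← hconj α _ hα, hfX]
      simp
    have := heval _ h1
    rwa [aeval_comp, map_pow, aeval_X] at this
  have hfdeg : q - 1 ≤ f.natDegree := by
    classical
    let s : Finset K := Finset.univ.image fun i : Fin (q - 1) => ζ ^ (i.val + 1)
    have hs : s.card = q - 1 := by
      rw [Finset.card_image_of_injective _ fun a b h => ?_, Finset.card_univ, Fintype.card_fin]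
      have := pow_injOn_Iio_orderOf (x := ζ)
        (show a.val + 1 ∈ Set.Iio (orderOf ζ) by rw [hζo]; have := a.isLt; simp; omega)
        (show b.val + 1 ∈ Set.Iio (orderOf ζ) by rw [hζo]; have := b.isLt; simp; omega) h
      exact Fin.ext (by omega)
    have hle : s.val ≤ (f.map (algebraMap (ZMod p) K)).roots :=
      Finset.val_le_iff_val_subset.mpr fun x hx => by
        obtain ⟨i, -, rfl⟩ := Finset.mem_image.mp (Finset.mem_val.mp hx)
        rw [mem_roots_map_of_injective (algebraMap (ZMod p) K).injective hfirr.ne_zero,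
          ← aeval_def]
        exact hroots i
    calc q - 1 = s.card := hs.symm
      _ ≤ (f.map (algebraMap (ZMod p) K)).roots.card := Multiset.card_le_card hle
      _ ≤ _ := (card_roots' _).trans_eq (natDegree_map _)
  set o := orderOf (p : ZMod q) with ho
  have hpq0 : (p : ZMod q) ≠ 0 := fun h =>
    hpq ((Nat.prime_dvd_prime_iff_eq hq.out hp.out).mp ((ZMod.natCast_eq_zero_iff _ _).mp h)).symm
  have hdvd : o ∣ q - 1 := orderOf_dvd_of_pow_eq_one (ZMod.pow_card_sub_one_eq_one hpq0)
  have ho0 : 0 < o := Nat.pos_of_ne_zero fun h =>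
    (Nat.sub_pos_of_lt hq.out.one_lt).ne' (Nat.eq_zero_of_zero_dvd (h ▸ hdvd))
  refine le_antisymm (Nat.le_of_dvd (Nat.sub_pos_of_lt hq.out.one_lt) hdvd) (hfdeg.trans ?_)
  haveI : CharP K p := charP_of_injective_algebraMap (algebraMap (ZMod p) K).injective p
  have hfix : ∀ x : K, x ^ p ^ o = x := by
    intro x
    induction x using AdjoinRoot.induction_on with
    | _ r =>
      have hζo' : ζ ^ p ^ o = ζ := by
        have hm : p ^ o % q = 1 % q := (ZMod.natCast_eq_natCast_iff _ _ _).mp (by
          rw [Nat.cast_pow, ho, pow_orderOf_eq_one, Nat.cast_one])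
        rw [← pow_mod_orderOf, hζo, hm, Nat.mod_eq_of_lt hq.out.one_lt, pow_one]
      have hone : ∀ a : ZMod p, a ^ p ^ o = a := fun a => by
        clear_value o
        clear hζo' ho ho0 hdvd
        induction o with
        | zero => simp
        | succ n ih => rw [pow_succ, pow_mul, ih, ZMod.pow_card]
      rw [← AdjoinRoot.aeval_eq, ← hζ]
      induction r using Polynomial.induction_on with
      | C a => rw [aeval_C, ← map_pow, hone]
      | add r s hr hs =>
        rw [map_add, add_pow_char_pow, hr, hs]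
      | monomial n a ih =>
        rw [pow_succ, ← mul_assoc, map_mul, mul_pow, ih, aeval_X, hζo']
  let pb := AdjoinRoot.powerBasis hfirr.ne_zero
  haveI : Module.Finite (ZMod p) K := pb.finite
  haveI : Finite K := Module.finite_of_finite (ZMod p)
  haveI := Fintype.ofFinite K
  classical
  have hKcard : Fintype.card K = p ^ f.natDegree := by
    rw [Module.card_fintype pb.basis, ZMod.card, Fintype.card_fin]
    rfl
  have hsub : (Finset.univ : Finset K).val ≤ (Polynomial.X ^ p ^ o - Polynomial.X : K[X]).roots :=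
    Finset.val_le_iff_val_subset.mpr fun x _ => by
      rw [mem_roots (FiniteField.X_pow_card_pow_sub_X_ne_zero K ho0.ne' hp.out.one_lt), IsRoot.def,
        eval_sub, eval_pow, eval_X, hfix, sub_self]
  have h1 := (Multiset.card_le_card hsub).trans (card_roots' _)
  rw [FiniteField.X_pow_card_pow_sub_X_natDegree_eq K ho0.ne' hp.out.one_lt, Finset.card_val,
    Finset.card_univ, hKcard] at h1
  exact (Nat.pow_le_pow_iff_right hp.out.one_lt).mp h1

end Cfsg.Lib.ThreeOrbits
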