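import Cfsg.Agent.ThreeOrbits.Frames
import Cfsg.Agent.ThreeOrbits.Primitive
import Cfsg.Prelude.Def_Transfer
import Cfsg.Agent.Coprime.Fitting
import Cfsg.Agent.Components.Cores
import Cfsg.Agent.Chars.Burnside
import Cfsg.Agent.SolvStruct.NilpotentHall
import Cfsg.Agent.Thompson.PComplement

/-!
Finite groups, not of prime power order, with three orbits of the automorphism group.
-/

set_option linter.style.haveILetI false
set_option linter.unusedSectionVars false

namespace Cfsg.Lib.ThreeOrbits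

open Subgroup

universe u

variable {G : Type u} [Group G] [Finite G]

theorem orderOf_smul_aut (α : MulAut G) (x : G) : orderOf (α • x) = orderOf x :=
  MulEquiv.orderOf_eq α x

theorem smul_char {N : Subgroup G} [hN : N.Characteristic] {x : G} (hx : x ∈ N) (α : MulAut G) :
    α x ∈ N :=
  (Subgroup.characteristic_iff_map_le.mp hN α) ⟨x, hx, rfl⟩

theorem three_orbits_of {p q n : ℕ} [hp : Fact p.Prime] [hq : Fact q.Prime] (hpq : p ≠ q)
    (hn : 1 ≤ n) (hcard : Nat.card G = p ^ n * q)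
    (hP : ∀ P : Sylow p G, (P : Subgroup G).Normal ∧ Cfsg.IsElementaryAbelian p (P : Subgroup G))
    (hord : orderOf (p : ZMod q) = q - 1)
    (hxy : ∀ x y : G, orderOf x = q → orderOf y = p → x * y * x⁻¹ ≠ y) :
    Nat.card (MulAction.orbitRel.Quotient (MulAut G) G) = 3 := by
  obtain ⟨P₀⟩ : Nonempty (Sylow p G) := inferInstance
  obtain ⟨hPn, hPc, hPexp⟩ := hP P₀
  haveI := hPn
  haveI := hPc
  set P := (P₀ : Subgroup G) with hPdef
  have hPcard : Nat.card P = p ^ n := by
    rw [hPdef, P₀.card_eq_multiplicity, hcard,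
      Nat.factorization_mul (pow_ne_zero _ hp.out.ne_zero) hq.out.ne_zero, Finsupp.add_apply,
      hp.out.factorization_pow, Finsupp.single_eq_same,
      Nat.factorization_eq_zero_of_not_dvd (n := q) fun h =>
        hpq ((Nat.prime_dvd_prime_iff_eq hp.out hq.out).mp h), add_zero]
  have hPp : ∀ u : P, u ^ p = 1 := fun u => Subtype.ext (hPexp u u.2)
  have hordP : ∀ u ∈ P, u ≠ 1 → orderOf u = p := fun u hu h => orderOf_eq_prime (hPexp u hu) h
  have hidx : P.index = q := by
    have h := P.card_mul_index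
    rw [hPcard, hcard] at h
    exact Nat.eq_of_mul_eq_mul_left (pow_pos hp.out.pos n) h
  have hout : ∀ x : G, x ∉ P → orderOf x = q := by
    intro x hx
    have h1 : orderOf (QuotientGroup.mk' P x) = q := by
      refine orderOf_eq_prime ?_ fun h => hx ((QuotientGroup.eq_one_iff x).mp h)
      rw [← hidx, Subgroup.index_eq_card]
      exact pow_card_eq_one'
    have hdvd : q ∣ orderOf x := h1 ▸ orderOf_map_dvd _ x
    have hxq : x ^ q ∈ P := by
      rw [← QuotientGroup.eq_one_iff, ← QuotientGroup.mk'_apply, map_pow]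
      conv_lhs => rw [← h1]
      exact pow_orderOf_eq_one _
    by_contra hne
    have hy1 : x ^ q ≠ 1 := fun h => hne (Nat.dvd_antisymm (orderOf_dvd_of_pow_eq_one h) hdvd)
    have hyo := hordP _ hxq hy1
    have hox : orderOf x = p * q := by
      rw [← hyo, orderOf_pow_of_dvd hq.out.ne_zero hdvd, Nat.div_mul_cancel hdvd]
    refine hxy (x ^ p) (x ^ q) ?_ hyo ?_
    · rw [orderOf_pow_of_dvd hp.out.ne_zero (hox ▸ dvd_mul_right p q), hox,
        Nat.mul_div_cancel_left _ hp.out.pos]
    · rw [((Commute.refl x).pow_pow p q).eq, mul_inv_cancel_right]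
  have hcompl : ∀ g : G, orderOf g = q → P.IsComplement' (zpowers g) := fun g hg => by
    refine isComplement'_of_coprime ?_ ?_
    · rw [Nat.card_zpowers, hg, hPcard, hcard]
    · rw [Nat.card_zpowers, hg, hPcard]
      exact Nat.Coprime.pow_left _ ((Nat.coprime_primes hp.out hq.out).mpr hpq)
  have hfpf : ∀ g : G, orderOf g = q → Cfsg.Lib.Frobenius.Fpf (zpowers g) P := by
    intro g hg a ha ha1
    rw [eq_bot_iff]
    rintro y ⟨hy, hyc⟩
    rw [mem_bot]
    by_contra hy1
    have hoa : orderOf a = q := by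
      rcases (Nat.dvd_prime hq.out).mp (hg ▸ orderOf_dvd_of_mem_zpowers ha) with h | h
      · exact absurd (orderOf_eq_one_iff.mp h) ha1
      · exact h
    refine hxy a y hoa (hordP y hy hy1) ?_
    rw [← mem_centralizer_singleton_iff.mp hyc, mul_inv_cancel_right]
  obtain ⟨⟨v₀, hv₀⟩, hv₀o⟩ := exists_prime_orderOf_dvd_card' (G := P) p
    (hPcard ▸ dvd_pow_self p (by omega))
  rw [Subgroup.orderOf_mk] at hv₀o
  obtain ⟨g₀, hg₀⟩ := exists_prime_orderOf_dvd_card' (G := G) q (hcard ▸ dvd_mul_left q _)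
  have hv₀1 : (⟨v₀, hv₀⟩ : P) ≠ 1 := fun h => hp.out.one_lt.ne (by
    rw [← hv₀o, show v₀ = 1 from congrArg Subtype.val h, orderOf_one])
  have htrans : ∀ g : G, orderOf g = q → ∀ v : P, v ≠ 1 →
      ∃ α : MulAut G, α g₀ = g ∧ α v₀ = v := fun g hg v hv =>
    exists_aut hord hPp hg₀ hg (hcompl g₀ hg₀) (hcompl g hg) (hfpf g₀ hg₀) (hfpf g hg) hv₀1 hv
  set cls : G → MulAction.orbitRel.Quotient (MulAut G) G := Quotient.mk'' with hcls
  have hsame : ∀ x y : G, cls x = cls y → orderOf x = orderOf y := by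
    intro x y h
    obtain ⟨α, hα⟩ := MulAction.orbitRel_apply.mp (Quotient.eq''.mp h)
    rw [← hα]
    exact orderOf_smul_aut α y
  rw [← Set.ncard_univ,
    show (Set.univ : Set (MulAction.orbitRel.Quotient (MulAut G) G)) = {cls 1, cls v₀, cls g₀} from ?_]
  · rw [Set.ncard_eq_three]
    refine ⟨_, _, _, fun h => ?_, fun h => ?_, fun h => ?_, rfl⟩
    · have := hsame _ _ h; rw [orderOf_one, hv₀o] at this; exact hp.out.one_lt.ne this
    · have := hsame _ _ h; rw [orderOf_one, hg₀] at this; exact hq.out.one_lt.ne this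
    · have := hsame _ _ h; rw [hv₀o, hg₀] at this; exact hpq this
  · refine (Set.eq_univ_of_forall fun c => ?_).symm
    induction c using Quotient.inductionOn' with
    | _ x =>
      simp only [Set.mem_insert_iff, Set.mem_singleton_iff]
      by_cases hxP : x ∈ P
      · by_cases hx1 : x = 1
        · left; rw [hx1]
        · right; left
          obtain ⟨α, -, h2⟩ := htrans g₀ hg₀ ⟨x, hxP⟩ fun h => hx1 (congrArg Subtype.val h)
          exact Quotient.sound' (MulAction.orbitRel_apply.mpr ⟨α, h2⟩)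
      · right; right
        obtain ⟨α, h1, -⟩ := htrans x (hout x hxP) _ hv₀1
        exact Quotient.sound' (MulAction.orbitRel_apply.mpr ⟨α, h1⟩)

theorem of_three_orbits (hnpp : ¬ IsPrimePow (Nat.card G)) (hnt : Nat.card G ≠ 1)
    (h3 : Nat.card (MulAction.orbitRel.Quotient (MulAut G) G) = 3) :
    ∃ (p q n : ℕ) (_ : Fact p.Prime) (_ : Fact q.Prime), p ≠ q ∧ 1 ≤ n ∧ Nat.card G = p ^ n * q ∧
      (∀ P : Sylow p G, (P : Subgroup G).Normal ∧ Cfsg.IsElementaryAbelian p (P : Subgroup G)) ∧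
      orderOf (p : ZMod q) = q - 1 ∧
      ∀ x y : G, orderOf x = q → orderOf y = p → x * y * x⁻¹ ≠ y := by
  classical
  obtain ⟨r₁, hr₁, hr₁d⟩ := Nat.exists_prime_and_dvd hnt
  obtain ⟨r₂, hr₂, hr₂d, hne⟩ : ∃ r, r.Prime ∧ r ∣ Nat.card G ∧ r ≠ r₁ := by
    by_contra h
    push Not at h
    refine hnpp ?_
    rw [Nat.eq_prime_pow_of_unique_prime_dvd Nat.card_pos.ne' (p := r₁) fun {d} hd hdd => h d hd hdd]
    refine hr₁.isPrimePow.pow ?_
    intro hlen
    have h1 : Nat.card G = 1 := by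
      rw [Nat.eq_prime_pow_of_unique_prime_dvd Nat.card_pos.ne' (p := r₁) fun {d} hd hdd => h d hd hdd,
        hlen, pow_zero]
    exact hnt h1
  haveI := Fact.mk hr₁
  haveI := Fact.mk hr₂
  set cls : G → MulAction.orbitRel.Quotient (MulAut G) G := Quotient.mk'' with hcls
  have hsame : ∀ x y : G, cls x = cls y → orderOf x = orderOf y := by
    intro x y h
    obtain ⟨α, hα⟩ := MulAction.orbitRel_apply.mp (Quotient.eq''.mp h)
    rw [← hα]
    exact orderOf_smul_aut α y
  obtain ⟨a₁, ha₁⟩ := exists_prime_orderOf_dvd_card' (G := G) r₁ hr₁d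
  obtain ⟨a₂, ha₂⟩ := exists_prime_orderOf_dvd_card' (G := G) r₂ hr₂d
  have hcover : ∀ x : G, cls x = cls 1 ∨ cls x = cls a₁ ∨ cls x = cls a₂ := by
    intro x
    have hthree : ({cls 1, cls a₁, cls a₂} : Set _) = Set.univ := by
      refine Set.eq_of_subset_of_ncard_le (Set.subset_univ _) ?_ (Set.toFinite _)
      rw [Set.ncard_univ, h3, Set.ncard_eq_three.mpr ⟨_, _, _, fun h => ?_, fun h => ?_, fun h => ?_, rfl⟩]
      · have := hsame _ _ h; rw [orderOf_one, ha₁] at this; exact hr₁.one_lt.ne this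
      · have := hsame _ _ h; rw [orderOf_one, ha₂] at this; exact hr₂.one_lt.ne this
      · have := hsame _ _ h; rw [ha₁, ha₂] at this; exact hne this.symm
    have := Set.mem_univ (cls x)
    rw [← hthree] at this
    simpa using this
  have horders : ∀ x : G, x ≠ 1 → orderOf x = r₁ ∨ orderOf x = r₂ := by
    intro x hx
    rcases hcover x with h | h | h
    · exact absurd (orderOf_eq_one_iff.mp ((hsame _ _ h).trans orderOf_one)) hx
    · exact Or.inl ((hsame _ _ h).trans ha₁)
    · exact Or.inr ((hsame _ _ h).trans ha₂)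
  have hprimes : ∀ r : ℕ, r.Prime → r ∣ Nat.card G → r = r₁ ∨ r = r₂ := fun r hr hd => by
    haveI := Fact.mk hr
    obtain ⟨a, ha⟩ := exists_prime_orderOf_dvd_card' (G := G) r hd
    have := horders a fun h => hr.one_lt.ne (by rw [← ha, h, orderOf_one])
    rwa [ha] at this
  haveI : Group.IsSolvable G :=
    Cfsg.Lib.Chars.burnside_isSolvable r₁ r₂ hr₁ hr₂ G
      ⟨(Nat.card G).factorization r₁, (Nat.card G).factorization r₂, by
        refine Nat.eq_of_factorization_eq Nat.card_pos.ne'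
          (mul_ne_zero (pow_ne_zero _ hr₁.ne_zero) (pow_ne_zero _ hr₂.ne_zero)) fun r => ?_
        rw [Nat.factorization_mul (pow_ne_zero _ hr₁.ne_zero) (pow_ne_zero _ hr₂.ne_zero),
          Finsupp.add_apply, hr₁.factorization_pow, hr₂.factorization_pow, Finsupp.single_apply,
          Finsupp.single_apply]
        by_cases hr : r.Prime ∧ r ∣ Nat.card G
        · rcases hprimes r hr.1 hr.2 with rfl | rfl <;> simp [hne, hne.symm]
        · have h0 : (Nat.card G).factorization r = 0 := by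
            rcases not_and_or.mp hr with h | h
            · exact Nat.factorization_eq_zero_of_not_prime _ h
            · exact Nat.factorization_eq_zero_of_not_dvd h
          rw [h0]
          split <;> split <;> (try subst_vars) <;> omega⟩
  haveI : Nontrivial G := Finite.one_lt_card_iff_nontrivial.mp (by
    have := Nat.card_pos (α := G); omega)
  set F := fittingSubgroup G with hF
  haveI : Group.IsNilpotent F := Cfsg.Lib.Components.isNilpotent_fitting
  have hFchar : ∀ x ∈ F, ∀ α : MulAut G, α x ∈ F := by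
    intro x hx α
    have h : F.map α.toMonoidHom ≤ F := by
      haveI : (F.map α.toMonoidHom).Normal :=
        (Subgroup.sSup_normal _ fun _ h => h.1 : F.Normal).map _ α.surjective
      refine Cfsg.Lib.Components.le_fitting ?_
      exact (Group.isNilpotent_congr (F.equivMapOfInjective _ α.injective)).mp inferInstance
    exact h ⟨x, hx, rfl⟩
  obtain ⟨p, q, hp, hq, hpq, horders, hprimes, b, hb, hbF, htrp, htrq, hqd⟩ :
      ∃ p q : ℕ, p.Prime ∧ q.Prime ∧ p ≠ q ∧ (∀ x : G, x ≠ 1 → orderOf x = p ∨ orderOf x = q) ∧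
        (∀ r : ℕ, r.Prime → r ∣ Nat.card G → r = p ∨ r = q) ∧
        ∃ b : G, orderOf b = p ∧ b ∈ F ∧
          (∀ x : G, orderOf x = p → ∃ α : MulAut G, α b = x) ∧
          (∀ x y : G, orderOf x = q → orderOf y = q → ∃ α : MulAut G, α x = y) ∧ q ∣ Nat.card G := by
    have htr : ∀ x y : G, x ≠ 1 → orderOf x = orderOf y → ∃ α : MulAut G, α x = y := by
      intro x y hx hxy
      have hy : y ≠ 1 := fun h => hx (orderOf_eq_one_iff.mp (by rw [hxy, h, orderOf_one]))
      have hcl : cls y = cls x := by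
        have key : ∀ z : G, z ≠ 1 → (orderOf z = r₁ → cls z = cls a₁) ∧ (orderOf z = r₂ → cls z = cls a₂) := by
          intro z hz
          rcases hcover z with h | h | h
          · exact absurd (orderOf_eq_one_iff.mp ((hsame _ _ h).trans orderOf_one)) hz
          · exact ⟨fun _ => h, fun h' => absurd (((hsame _ _ h).trans ha₁).symm.trans h') hne.symm⟩
          · exact ⟨fun h' => absurd (((hsame _ _ h).trans ha₂).symm.trans h') hne, fun _ => h⟩
        rcases horders x hx with h | h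
        · rw [(key x hx).1 h, (key y hy).1 (hxy ▸ h)]
        · rw [(key x hx).2 h, (key y hy).2 (hxy ▸ h)]
      obtain ⟨α, hα⟩ := MulAction.orbitRel_apply.mp (Quotient.eq''.mp hcl)
      exact ⟨α, hα⟩
    haveI : Nontrivial F := (Subgroup.nontrivial_iff_ne_bot F).mpr
      (Cfsg.Lib.Coprime.fitting_ne_bot (G := G))
    obtain ⟨⟨b, hb⟩, hb1'⟩ := exists_ne (1 : F)
    have hb1 : b ≠ 1 := fun h => hb1' (Subtype.ext h)
    rcases horders b hb1 with h | h
    · exact ⟨r₁, r₂, hr₁, hr₂, hne.symm, horders, hprimes, b, h, hb,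
        fun x hx => htr b x hb1 (h.trans hx.symm),
        fun x y hx hy => htr x y (fun e => hr₂.one_lt.ne (by rw [← hx, e, orderOf_one]))
          (hx.trans hy.symm), hr₂d⟩
    · exact ⟨r₂, r₁, hr₂, hr₁, hne, fun x hx => (horders x hx).symm, fun r hr hd => (hprimes r hr hd).symm,
        b, h, hb, fun x hx => htr b x hb1 (h.trans hx.symm),
        fun x y hx hy => htr x y (fun e => hr₁.one_lt.ne (by rw [← hx, e, orderOf_one]))
          (hx.trans hy.symm), hr₁d⟩
  haveI := Fact.mk hp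
  haveI := Fact.mk hq
  have hpF : ∀ x : G, orderOf x = p → x ∈ F := fun x hx => by
    obtain ⟨α, hα⟩ := htrp x hx
    exact hα ▸ hFchar b hbF α
  have hFp : ∀ x ∈ F, x ≠ 1 → orderOf x = p := by
    intro x hx hx1
    refine (horders x hx1).resolve_right fun hxq => ?_
    have hc : Commute (⟨b, hbF⟩ : F) ⟨x, hx⟩ :=
      Cfsg.Lib.SolvStruct.commute_of_coprime_of_nilpotent hpq ⟨1, by rw [Subgroup.orderOf_mk, hb, pow_one]⟩
        ⟨1, by rw [Subgroup.orderOf_mk, hxq, pow_one]⟩
    have ho := (hc.map F.subtype).orderOf_mul_eq_mul_orderOf_of_coprime (by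
      simp only [Subgroup.coe_subtype, hb, hxq]
      exact (Nat.coprime_primes hp hq).mpr hpq)
    simp only [Subgroup.coe_subtype, hb, hxq] at ho
    have hne1 : b * x ≠ 1 := fun h => by
      rw [h, orderOf_one] at ho
      exact (Nat.one_lt_mul_iff.mpr ⟨hp.pos, hq.pos, Or.inl hp.one_lt⟩).ne ho
    rcases horders _ hne1 with h | h <;> rw [h] at ho
    · exact hq.one_lt.ne' (Nat.eq_of_mul_eq_mul_left hp.pos (by rw [← ho, mul_one]))
    · exact hp.one_lt.ne' (Nat.eq_of_mul_eq_mul_right hq.pos (by rw [← ho, one_mul]))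
  have hFexp : ∀ x ∈ F, x ^ p = 1 := fun x hx => by
    by_cases h : x = 1
    · rw [h, one_pow]
    · rw [← hFp x hx h, pow_orderOf_eq_one]
  have hFpg : IsPGroup p F := fun x => ⟨1, Subtype.ext (by simpa using hFexp x x.2)⟩
  haveI hFn : F.Normal := Subgroup.sSup_normal _ fun _ h => h.1
  have hsyl : ∀ P : Sylow p G, (P : Subgroup G) = F := by
    intro P
    refine le_antisymm (fun x hx => ?_) ?_
    · by_cases h : x = 1
      · rw [h]; exact one_mem F
      · refine hpF x ((horders x h).resolve_right fun hq' => ?_)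
        obtain ⟨i, hi⟩ := IsPGroup.iff_orderOf.mp P.2 ⟨x, hx⟩
        rw [Subgroup.orderOf_mk, hq'] at hi
        exact hpq ((Nat.prime_dvd_prime_iff_eq hq hp).mp (hq.dvd_of_dvd_pow hi.dvd)).symm
    · exact Cfsg.Lib.Thompson.le_sylow_of_normal hFpg P
  have hFc : IsMulCommutative F := by
    refine ⟨⟨fun x y => ?_⟩⟩
    have hb1 : (⟨b, hbF⟩ : F) ≠ 1 := fun h => hp.one_lt.ne (by
      rw [← hb, show b = 1 from congrArg Subtype.val h, orderOf_one])
    haveI : Nontrivial F := ⟨⟨_, _, hb1⟩⟩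
    haveI := hFpg.center_nontrivial
    obtain ⟨⟨z, hz⟩, hz1⟩ := exists_ne (1 : Subgroup.center F)
    by_cases hy : y = 1
    · simp [hy]
    have hzo : orderOf (z : G) = p := hFp z z.2 fun h => hz1 (Subtype.ext (Subtype.ext h))
    have hyo : orderOf (y : G) = p := hFp y y.2 fun h => hy (Subtype.ext h)
    obtain ⟨α, hα⟩ := htrp (z : G) hzo
    obtain ⟨β, hβ⟩ := htrp (y : G) hyo
    let γ : MulAut G := β * α⁻¹
    have hγ : γ (z : G) = y := by
      rw [← hα, ← hβ]; simp [γ]
    have hx' : γ⁻¹ (x : G) ∈ F := hFchar x x.2 _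
    have hc := congrArg Subtype.val (mem_center_iff.mp hz ⟨_, hx'⟩)
    refine Subtype.ext ?_
    have h2 := congrArg γ hc
    simp only [Subgroup.coe_mul, map_mul, hγ, MulAut.apply_inv_self] at h2
    exact h2
  haveI := hFc
  have hxy : ∀ x y : G, orderOf x = q → orderOf y = p → x * y * x⁻¹ ≠ y := by
    intro x y hx hy he
    have hc : Commute x y := mul_inv_eq_iff_eq_mul.mp he
    have ho := hc.orderOf_mul_eq_mul_orderOf_of_coprime
      (by rw [hx, hy]; exact (Nat.coprime_primes hq hp).mpr hpq.symm)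
    rw [hx, hy] at ho
    have hne1 : x * y ≠ 1 := fun h => by
      rw [h, orderOf_one] at ho
      exact (Nat.one_lt_mul_iff.mpr ⟨hq.pos, hp.pos, Or.inl hq.one_lt⟩).ne ho
    rcases horders _ hne1 with h | h <;> rw [h] at ho
    · exact hq.one_lt.ne' (Nat.eq_of_mul_eq_mul_right hp.pos (by rw [← ho, one_mul]))
    · exact hp.one_lt.ne' (Nat.eq_of_mul_eq_mul_left hq.pos (by rw [← ho, mul_one]))
  have hFne : F ≠ ⊥ := fun h => hp.one_lt.ne (by
    rw [← hb, show b = 1 from mem_bot.mp (h ▸ hbF), orderOf_one])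
  obtain ⟨Q⟩ : Nonempty (Sylow q G) := inferInstance
  have hfpf : Cfsg.Lib.Frobenius.Fpf (Q : Subgroup G) F := by
    intro a ha ha1
    rw [eq_bot_iff]
    rintro y ⟨hy, hyc⟩
    rw [mem_bot]
    by_contra hy1
    refine hxy a y ((horders a ha1).resolve_left fun h => ?_) (hFp y hy hy1) ?_
    · obtain ⟨i, hi⟩ := IsPGroup.iff_orderOf.mp Q.2 ⟨a, ha⟩
      rw [Subgroup.orderOf_mk, h] at hi
      exact hpq ((Nat.prime_dvd_prime_iff_eq hp hq).mp (hp.dvd_of_dvd_pow hi.dvd))
    · rw [← mem_centralizer_singleton_iff.mp hyc, mul_inv_cancel_right]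
  obtain ⟨g, hgQ, hg⟩ : ∃ g : G, g ∈ (Q : Subgroup G) ∧ orderOf g = q := by
    obtain ⟨⟨g, hgQ⟩, hg⟩ := exists_prime_orderOf_dvd_card' (G := (Q : Subgroup G)) q
      (by
        rw [Q.card_eq_multiplicity]
        exact dvd_pow_self q (Nat.pos_iff_ne_zero.mp (hq.factorization_pos_of_dvd Nat.card_pos.ne' hqd)))
    exact ⟨g, hgQ, by rwa [Subgroup.orderOf_mk] at hg⟩
  have hQcard : Nat.card (Q : Subgroup G) = q := by
    have hord' : ∀ y : (Q : Subgroup G), y ≠ 1 → orderOf y = q := fun y hy => by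
      rw [← Subgroup.orderOf_coe]
      refine (horders (y : G) fun h => hy (Subtype.ext h)).resolve_left fun h => ?_
      obtain ⟨i, hi⟩ := IsPGroup.iff_orderOf.mp Q.2 y
      rw [← Subgroup.orderOf_coe, h] at hi
      exact hpq ((Nat.prime_dvd_prime_iff_eq hp hq).mp (hp.dvd_of_dvd_pow hi.dvd))
    have heq : zpowers g = (Q : Subgroup G) := by
      refine le_antisymm (zpowers_le.mpr hgQ) fun y hy => ?_
      by_cases h : y = 1
      · rw [h]; exact one_mem _
      have := hfpf.unique le_normalizer_of_normal hFne Q.2 ⟨g, hgQ⟩ ⟨y, hy⟩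
        (by rw [Subgroup.orderOf_mk, hg]) (hord' _ fun e => h (congrArg Subtype.val e))
      obtain ⟨k, hk⟩ := mem_zpowers_iff.mp this
      exact mem_zpowers_iff.mpr ⟨k, by simpa using congrArg Subtype.val hk⟩
    rw [← heq, Nat.card_zpowers, hg]
  obtain ⟨P₀⟩ : Nonempty (Sylow p G) := inferInstance
  have hbd : p ∣ Nat.card G := hb ▸ orderOf_dvd_natCard b
  have hn : 1 ≤ (Nat.card G).factorization p := hp.factorization_pos_of_dvd Nat.card_pos.ne' hbd
  have hqfac : (Nat.card G).factorization q = 1 := by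
    rw [Q.card_eq_multiplicity] at hQcard
    exact Nat.pow_right_injective hq.two_le (hQcard.trans (pow_one q).symm)
  have hcard : Nat.card G = p ^ (Nat.card G).factorization p * q := by
    refine Nat.eq_of_factorization_eq Nat.card_pos.ne'
      (mul_ne_zero (pow_ne_zero _ hp.ne_zero) hq.ne_zero) fun r => ?_
    rw [Nat.factorization_mul (pow_ne_zero _ hp.ne_zero) hq.ne_zero, Finsupp.add_apply,
      hp.factorization_pow, Finsupp.single_apply, Nat.Prime.factorization hq, Finsupp.single_apply]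
    by_cases hr : r.Prime ∧ r ∣ Nat.card G
    · rcases hprimes r hr.1 hr.2 with rfl | rfl
      · simp [hpq.symm]
      · simp [hpq, hqfac]
    · have h0 : (Nat.card G).factorization r = 0 := by
        rcases not_and_or.mp hr with h | h
        · exact Nat.factorization_eq_zero_of_not_prime _ h
        · exact Nat.factorization_eq_zero_of_not_dvd h
      rw [h0]
      split <;> split <;> (try subst_vars) <;> omega
  refine ⟨p, q, _, ⟨hp⟩, ⟨hq⟩, hpq, hn, hcard,
    fun P => ⟨(hsyl P).symm ▸ hFn, (hsyl P).symm ▸ ⟨hFc, hFexp⟩⟩, ?_, hxy⟩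
  -- `p` is a primitive root
  have hFcard : Nat.card F = p ^ (Nat.card G).factorization p := by
    rw [← hsyl P₀, P₀.card_eq_multiplicity]
  have hcompl : F.IsComplement' (zpowers g) := by
    refine isComplement'_of_coprime ?_ ?_
    · rw [Nat.card_zpowers, hg, hFcard, ← hcard]
    · rw [Nat.card_zpowers, hg, hFcard]
      exact Nat.Coprime.pow_left _ ((Nat.coprime_primes hp hq).mpr hpq)
  have hgalG : ∀ x : G, orderOf x = q → ∃ (u : G) (j : ℕ), u ∈ F ∧ x = u * g ^ j := by
    intro x _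
    obtain ⟨⟨u, c⟩, hc⟩ := hcompl.2 x
    obtain ⟨j, hj⟩ := (Submonoid.mem_powers_iff _ _).mp
      ((isOfFinOrder_of_finite g).mem_powers_iff_mem_zpowers.mpr c.2)
    exact ⟨u, j, u.2, by rw [hj]; exact hc.symm⟩
  letI : CommGroup F := { (inferInstance : Group F) with mul_comm := mul_comm' }
  haveI : Module (ZMod p) (Additive F) := AddCommGroup.zmodModule fun v =>
    congrArg Additive.ofMul (Subtype.ext (hFexp v.toMul v.toMul.2) : v.toMul ^ p = 1)
  haveI : Nontrivial F := (Subgroup.nontrivial_iff_ne_bot F).mpr hFne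
  haveI : Module.Finite (ZMod p) (Additive F) := Module.Finite.of_finite
  let X : Module.End (ZMod p) (Additive F) :=
    AddMonoidHom.toZModLinearMap p (MonoidHom.toAdditive (MulAut.conjNormal (H := F) g).toMonoidHom)
  have hX : ∀ (k : ℕ) (v : F),
      (X ^ k) (Additive.ofMul v) = Additive.ofMul (MulAut.conjNormal (g ^ k) v) := by
    intro k
    induction k with
    | zero => intro v; simp
    | succ k ih =>
      intro v
      rw [pow_succ', Module.End.mul_apply, ih, pow_succ', map_mul, MulAut.mul_apply]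
      rfl
  have hsemi : ∀ (α : MulAut G) (j : ℕ) (u₀ : G), u₀ ∈ F → α g = u₀ * g ^ j →
      ∃ e : Additive F ≃ₗ[ZMod p] Additive F,
        (∀ v : F, ((e (Additive.ofMul v)).toMul : G) = α v) ∧ ∀ v, e (X v) = (X ^ j) (e v) := by
    intro α j u₀ hu₀ hα
    let f : F →* F := MonoidHom.mk' (fun v => ⟨α v, hFchar v v.2 α⟩)
      fun a b => Subtype.ext (map_mul α (a : G) b)
    have hfb : Function.Bijective f := Finite.injective_iff_bijective.mp fun a b h =>
      Subtype.ext (α.injective (congrArg Subtype.val h))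
    refine ⟨LinearEquiv.ofBijective (AddMonoidHom.toZModLinearMap p (MonoidHom.toAdditive f)) hfb,
      fun v => rfl, fun v => ?_⟩
    obtain ⟨v, rfl⟩ := Additive.ofMul.surjective v
    conv_rhs => rw [show (LinearEquiv.ofBijective (AddMonoidHom.toZModLinearMap p
      (MonoidHom.toAdditive f)) hfb) (Additive.ofMul v) = Additive.ofMul (f v) from rfl, hX]
    show Additive.ofMul (f (MulAut.conjNormal g v)) = _
    refine congrArg Additive.ofMul (Subtype.ext ?_)
    show α ((MulAut.conjNormal g v : F) : G) = _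
    rw [MulAut.conjNormal_apply, MulAut.conjNormal_apply, map_mul, map_mul, map_inv, hα]
    show _ = g ^ j * α (v : G) * (g ^ j)⁻¹
    have hmem : g ^ j * α (v : G) * (g ^ j)⁻¹ ∈ F := hFn.conj_mem _ (hFchar v v.2 α) _
    have hcomm : u₀ * (g ^ j * α (v : G) * (g ^ j)⁻¹) = (g ^ j * α (v : G) * (g ^ j)⁻¹) * u₀ :=
      congrArg Subtype.val (mul_comm' (⟨u₀, hu₀⟩ : F) ⟨_, hmem⟩)
    calc u₀ * g ^ j * α (v : G) * (u₀ * g ^ j)⁻¹
        = u₀ * (g ^ j * α (v : G) * (g ^ j)⁻¹) * u₀⁻¹ := by group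
      _ = g ^ j * α (v : G) * (g ^ j)⁻¹ := by rw [hcomm]; group
  refine orderOf_eq_sub_one (V := Additive F) hpq X ?_ ?_ ?_ ?_
  · ext v
    obtain ⟨v, rfl⟩ := Additive.ofMul.surjective v
    rw [hX, ← hg, pow_orderOf_eq_one]
    simp
  · intro h
    have hv := hxy g b hg hb
    refine hv ?_
    have h' : (X ^ 1) (Additive.ofMul (⟨b, hbF⟩ : F)) = Additive.ofMul (⟨b, hbF⟩ : F) := by
      rw [pow_one, h]; rfl
    rw [hX, pow_one] at h'
    have h'' := congrArg (fun t : Additive F => ((t.toMul : F) : G)) h'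
    simpa using h''
  · intro v w hv hw
    obtain ⟨v, rfl⟩ := Additive.ofMul.surjective v
    obtain ⟨w, rfl⟩ := Additive.ofMul.surjective w
    have hne' : ∀ z : F, Additive.ofMul z ≠ 0 → orderOf (z : G) = p := fun z hz =>
      hFp z z.2 fun h => hz (congrArg Additive.ofMul (Subtype.ext h : z = 1))
    obtain ⟨α, hα⟩ := htrp (v : G) (hne' v hv)
    obtain ⟨β, hβ⟩ := htrp (w : G) (hne' w hw)
    obtain ⟨u₀, j, hu₀, hj⟩ := hgalG ((β * α⁻¹) g) (by rw [MulEquiv.orderOf_eq]; exact hg)
    obtain ⟨e, he1, he2⟩ := hsemi (β * α⁻¹) j u₀ hu₀ hj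
    refine ⟨j, e, ?_, he2⟩
    refine congrArg Additive.ofMul (Subtype.ext ?_ : (e (Additive.ofMul v)).toMul = w)
    rw [he1, ← hα, ← hβ]; simp
  · intro j hj
    obtain ⟨α, hα⟩ := htrq g (g ^ j) hg (by
      rw [orderOf_pow, hg, (Nat.coprime_comm.mp ((hq.coprime_iff_not_dvd).mpr hj)).symm, Nat.div_one])
    obtain ⟨e, -, he2⟩ := hsemi α j 1 (one_mem F) (by rw [one_mul, hα])
    exact ⟨e, he2⟩

end Cfsg.Lib.ThreeOrbits
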