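import Cfsg.Agent.Frobenius.FpfGroups
import Mathlib.Data.ZMod.Basic
import Mathlib.Algebra.BigOperators.Pi
import Mathlib.GroupTheory.GroupAction.Quotient
import Mathlib.Algebra.BigOperators.Fin

/-!
A group `P⋊⟨g⟩` with `P` elementary abelian, `g` of prime order `q` fixed-point-free on `P` and `p` a
primitive root mod `q`: the automorphism group is transitive on the pairs (element of order `q`,
non-identity element of `P`).
-/

set_option linter.style.haveILetI false
set_option linter.unusedSectionVars false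

namespace Cfsg.Lib.ThreeOrbits

open Subgroup Finset

universe u

variable {G : Type u} [Group G] [Finite G] {p q : ℕ} [hp : Fact p.Prime] [hq : Fact q.Prime]
  {P : Subgroup G} [P.Normal] [IsMulCommutative P]

noncomputable local instance : CommGroup P :=
  { (inferInstance : Group P) with mul_comm := mul_comm' }

/-- `k ↦` conjugation of `v` by `g ^ k`. -/
noncomputable def orb (g : G) (v : P) (k : ZMod q) : P := MulAut.conjNormal (g ^ k.val) v

theorem orb_add {g : G} (hg : g ^ q = 1) (v : P) (k l : ZMod q) :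
    orb g v (k + l) = MulAut.conjNormal (g ^ k.val) (orb g v l) := by
  have h : g ^ (k + l).val = g ^ k.val * g ^ l.val := by
    rw [← pow_add, pow_eq_pow_iff_modEq]
    refine (Nat.ModEq.of_dvd (orderOf_dvd_of_pow_eq_one hg) ?_)
    rw [ZMod.val_add]
    exact Nat.mod_modEq _ _
  simp only [orb, h, map_mul, MulAut.mul_apply]

/-- The linear combination of the conjugates of a family. -/
noncomputable def comb {j : ℕ} (hP : ∀ u : P, u ^ p = 1) (g : G) (v : Fin j → P) :
    Multiplicative (Fin j → ZMod q → ZMod p) →* P :=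
  MonoidHom.mk' (fun f => ∏ i, ∏ k : ZMod q, orb g (v i) k ^ (f.toAdd i k).val) fun f f' => by
    rw [← prod_mul_distrib]
    refine prod_congr rfl fun i _ => ?_
    rw [← prod_mul_distrib]
    refine prod_congr rfl fun k _ => ?_
    rw [← pow_add, pow_eq_pow_iff_modEq]
    refine Nat.ModEq.of_dvd (orderOf_dvd_of_pow_eq_one (hP _)) ?_
    simp only [toAdd_mul, Pi.add_apply, ZMod.val_add]
    exact Nat.mod_modEq _ _

theorem comb_apply {j : ℕ} (hP : ∀ u : P, u ^ p = 1) (g : G) (v : Fin j → P)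
    (f : Fin j → ZMod q → ZMod p) :
    comb hP g v (Multiplicative.ofAdd f) = ∏ i, ∏ k : ZMod q, orb g (v i) k ^ (f i k).val := rfl

theorem comb_single {j : ℕ} (hP : ∀ u : P, u ^ p = 1) (g : G) (v : Fin j → P) (i : Fin j) :
    comb (q := q) hP g v (Multiplicative.ofAdd (Pi.single i (Pi.single 0 1))) = v i := by
  classical
  rw [comb_apply, prod_eq_single i, prod_eq_single (0 : ZMod q)]
  · simp [orb, ZMod.val_one, ZMod.val_zero]
  · intro k _ hk; simp [Pi.single_eq_of_ne hk]
  · simp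
  · intro l _ hl; simp [Pi.single_eq_of_ne hl]
  · simp

theorem comb_shift {j : ℕ} (hP : ∀ u : P, u ^ p = 1) {g : G} (hg : g ^ q = 1) (v : Fin j → P)
    (f : Fin j → ZMod q → ZMod p) :
    comb hP g v (Multiplicative.ofAdd fun i k => f i (k - 1)) =
      MulAut.conjNormal g (comb hP g v (Multiplicative.ofAdd f)) := by
  rw [comb_apply, comb_apply, map_prod]
  refine prod_congr rfl fun i _ => ?_
  rw [map_prod]
  refine (Fintype.prod_equiv (Equiv.addLeft (1 : ZMod q)) _ _ fun k => ?_).symm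
  rw [Equiv.coe_addLeft, map_pow, orb_add hg, add_sub_cancel_left]
  congr 2
  rw [show g ^ (1 : ZMod q).val = g by rw [ZMod.val_one, pow_one]]

/-- The families constant along each orbit. -/
def constFam (p q j : ℕ) [Fact p.Prime] : (Fin j → ZMod p) →+ (Fin j → ZMod q → ZMod p) where
  toFun c := fun i _ => c i
  map_zero' := rfl
  map_add' _ _ := rfl

theorem card_constFam (j : ℕ) :
    Nat.card (AddMonoidHom.toMultiplicative (constFam p q j)).range = p ^ j := by
  have hinj : Function.Injective (AddMonoidHom.toMultiplicative (constFam p q j)) := fun a b h => by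
    refine Multiplicative.toAdd.injective (funext fun i => ?_)
    exact congrFun (congrFun (congrArg Multiplicative.toAdd h) i) 0
  rw [← Nat.card_congr (MonoidHom.ofInjective hinj).toEquiv,
    Nat.card_congr (Multiplicative.toAdd (α := Fin j → ZMod p)), Nat.card_pi]
  simp

theorem constFam_le_ker {j : ℕ} (hP : ∀ u : P, u ^ p = 1) {g : G} (hg : g ^ q = 1)
    (hfix : ∀ u : P, MulAut.conjNormal g u = u → u = 1) (v : Fin j → P) :
    (AddMonoidHom.toMultiplicative (constFam p q j)).range ≤ (comb hP g v).ker := by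
  rintro _ ⟨c, rfl⟩
  rw [MonoidHom.mem_ker]
  show comb hP g v (Multiplicative.ofAdd fun i (_ : ZMod q) => c.toAdd i) = 1
  rw [comb_apply]
  refine prod_eq_one fun i _ => ?_
  rw [prod_pow]
  refine (congrArg (· ^ (c.toAdd i).val) (hfix _ ?_)).trans (one_pow _)
  rw [map_prod]
  refine Fintype.prod_equiv (Equiv.addLeft (1 : ZMod q)) _ _ fun k => ?_
  rw [Equiv.coe_addLeft, orb_add hg, show g ^ (1 : ZMod q).val = g by rw [ZMod.val_one, pow_one]]

theorem card_range_mul_card_ker {j : ℕ} (hP : ∀ u : P, u ^ p = 1) (g : G) (v : Fin j → P) :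
    Nat.card (comb (q := q) hP g v).range * Nat.card (comb (q := q) hP g v).ker = p ^ (j * q) := by
  rw [← Subgroup.index_ker, mul_comm, Subgroup.card_mul_index,
    Nat.card_congr (Multiplicative.toAdd (α := Fin j → ZMod q → ZMod p))]
  simp [Nat.card_pi, pow_mul']

theorem card_range_le {j : ℕ} (hP : ∀ u : P, u ^ p = 1) {g : G} (hg : g ^ q = 1)
    (hfix : ∀ u : P, MulAut.conjNormal g u = u → u = 1) (v : Fin j → P) :
    Nat.card (comb (q := q) hP g v).range ≤ p ^ ((q - 1) * j) := by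
  refine Nat.le_of_mul_le_mul_right ?_ (pow_pos hp.out.pos j)
  calc Nat.card (comb (q := q) hP g v).range * p ^ j
      ≤ Nat.card (comb (q := q) hP g v).range * Nat.card (comb (q := q) hP g v).ker :=
        Nat.mul_le_mul_left _ (card_constFam (p := p) (q := q) j ▸
          Nat.le_of_dvd Nat.card_pos (card_dvd_of_le (constFam_le_ker hP hg hfix v)))
    _ = p ^ ((q - 1) * j) * p ^ j := by
        rw [card_range_mul_card_ker, ← pow_add]
        congr 1
        obtain ⟨t, rfl⟩ : ∃ t, q = t + 1 := ⟨q - 1, (Nat.succ_pred_eq_of_pos hq.out.pos).symm⟩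
        simp only [Nat.add_sub_cancel]
        ring

theorem conj_mem_range {j : ℕ} (hP : ∀ u : P, u ^ p = 1) {g : G} (hg : g ^ q = 1) (v : Fin j → P)
    {u : P} (hu : u ∈ (comb (q := q) hP g v).range) :
    MulAut.conjNormal g u ∈ (comb (q := q) hP g v).range := by
  obtain ⟨f, rfl⟩ := hu
  exact ⟨Multiplicative.ofAdd fun i k => f.toAdd i (k - 1), comb_shift hP hg v f.toAdd⟩

/-- An invariant non-trivial subgroup is large. -/
theorem pow_le_card (hord : orderOf (p : ZMod q) = q - 1) (hP : ∀ u : P, u ^ p = 1) {g : G}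
    (hg : orderOf g = q) (hf : Cfsg.Lib.Frobenius.Fpf (zpowers g) P) {U : Subgroup P}
    (hU : ∀ u ∈ U, MulAut.conjNormal g u ∈ U) (hne : U ≠ ⊥) : p ^ (q - 1) ≤ Nat.card U := by
  have hUG : zpowers g ≤ normalizer (U.map P.subtype : Set G) := zpowers_le.mpr (by
    rw [← Cfsg.Lib.Coprime.conjMap_eq_self_iff]
    refine eq_of_le_of_card_ge ?_ (Cfsg.Lib.Coprime.card_conjMap g (U.map P.subtype)).ge
    rintro _ ⟨_, ⟨u, hu, rfl⟩, rfl⟩
    exact ⟨MulAut.conjNormal g u, hU u hu, MulAut.conjNormal_apply g u⟩)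
  have hfU : Cfsg.Lib.Frobenius.Fpf (zpowers g) (U.map P.subtype) := fun a ha ha1 =>
    le_bot_iff.mp ((inf_le_inf_right _ (map_subtype_le U)).trans (hf a ha ha1).le)
  have h := hfU.card_dvd hUG
  rw [Nat.card_zpowers, hg, Subgroup.card_subtype] at h
  have hUp : IsPGroup p U := fun u => ⟨1, Subtype.ext (by simpa using hP u)⟩
  obtain ⟨d, hd⟩ := IsPGroup.iff_card.mp hUp
  have h1 : ((p : ZMod q)) ^ d = 1 := by
    rw [hd, ← ZMod.natCast_eq_zero_iff] at h
    have h2 : 1 ≤ p ^ d := Nat.one_le_pow _ _ hp.out.pos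
    rw [Nat.cast_sub h2, sub_eq_zero] at h
    simpa using h
  rw [← orderOf_dvd_iff_pow_eq_one, hord] at h1
  rw [hd]
  refine Nat.pow_le_pow_right hp.out.pos (Nat.le_of_dvd ?_ h1)
  refine Nat.pos_of_ne_zero fun h0 => hne (card_eq_one.mp (by rw [hd, h0, pow_zero]))

theorem conj_fix {g : G} (hg : g ≠ 1) (hf : Cfsg.Lib.Frobenius.Fpf (zpowers g) P) :
    ∀ u : P, MulAut.conjNormal g u = u → u = 1 := fun u hu => by
  refine Subtype.ext (hf.eq_one (mem_zpowers g) hg u.2 (mul_inv_eq_iff_eq_mul.mp ?_))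
  rw [← MulAut.conjNormal_apply, hu]

/-- Frames exist, starting at any non-identity element. -/
theorem exists_frame (hord : orderOf (p : ZMod q) = q - 1) (hP : ∀ u : P, u ^ p = 1) {g : G}
    (hg : orderOf g = q) (hf : Cfsg.Lib.Frobenius.Fpf (zpowers g) P) {v₀ : P} (hv₀ : v₀ ≠ 1) :
    ∃ j : ℕ, ∃ v : Fin (j + 1) → P, v 0 = v₀ ∧ (comb (q := q) hP g v).range = ⊤ ∧
      Nat.card P = p ^ ((q - 1) * (j + 1)) := by
  classical
  have hg1 : g ≠ 1 := fun h => hq.out.one_lt.ne (by rw [← hg, h, orderOf_one])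
  have hgq : g ^ q = 1 := hg ▸ pow_orderOf_eq_one g
  have hfix := conj_fix hg1 hf
  have hsingle : ∀ v : P, v ≠ 1 →
      Nat.card (comb (q := q) hP g ![v]).range = p ^ ((q - 1) * 1) := fun v hv => by
    refine le_antisymm (card_range_le hP hgq hfix _) ?_
    rw [mul_one]
    refine pow_le_card hord hP hg hf (fun u hu => conj_mem_range hP hgq _ hu) fun h => hv ?_
    have hm : v ∈ (comb (q := q) hP g ![v]).range := ⟨_, comb_single hP g ![v] 0⟩
    rwa [h, mem_bot] at hm
  suffices hk : ∀ k : ℕ, (∃ j : ℕ, ∃ v : Fin (j + 1) → P, v 0 = v₀ ∧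
      (comb (q := q) hP g v).range = ⊤ ∧ Nat.card P = p ^ ((q - 1) * (j + 1))) ∨
      ∃ v : Fin (k + 1) → P, v 0 = v₀ ∧
        Nat.card (comb (q := q) hP g v).range = p ^ ((q - 1) * (k + 1)) by
    rcases hk (Nat.card P) with h | ⟨v, -, hv⟩
    · exact h
    · have h1 := hv ▸ card_le_card_group (comb (q := q) hP g v).range
      have h2 : Nat.card P < p ^ ((q - 1) * (Nat.card P + 1)) :=
        (Nat.lt_succ_self _).trans ((Nat.lt_pow_self hp.out.one_lt).trans_le
          (Nat.pow_le_pow_right hp.out.pos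
            (Nat.le_mul_of_pos_left _ (Nat.sub_pos_of_lt hq.out.one_lt))))
      omega
  intro k
  induction k with
  | zero => exact Or.inr ⟨![v₀], rfl, hsingle v₀ hv₀⟩
  | succ k ih =>
    rcases ih with h | ⟨v, hv0, hv⟩
    · exact Or.inl h
    set R := (comb (q := q) hP g v).range with hR
    by_cases htop : R = ⊤
    · exact Or.inl ⟨k, v, hv0, htop, by rw [← hv, htop, card_top]⟩
    obtain ⟨w, hw⟩ : ∃ w, w ∉ R := by
      by_contra h
      push Not at h
      exact htop (eq_top_iff.mpr fun x _ => h x)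
    set C := (comb (q := q) hP g ![w]).range with hC
    have hwC : w ∈ C := ⟨_, comb_single hP g ![w] 0⟩
    have hCc : Nat.card C = p ^ ((q - 1) * 1) := hsingle w fun h => hw (h ▸ one_mem R)
    have hinf : R ⊓ C = ⊥ := by
      by_contra h
      have h1 := pow_le_card hord hP hg hf (U := R ⊓ C) (fun u hu =>
        ⟨conj_mem_range hP hgq _ hu.1, conj_mem_range hP hgq _ hu.2⟩) h
      have h2 : R ⊓ C = C := eq_of_le_of_card_ge inf_le_right (by rwa [hCc, mul_one])
      exact hw (inf_eq_right.mp h2 hwC)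
    refine Or.inr ⟨Fin.snoc v w, ?_, le_antisymm (card_range_le hP hgq hfix _) ?_⟩
    · rw [show (0 : Fin (k + 1 + 1)) = Fin.castSucc 0 from rfl, Fin.snoc_castSucc, hv0]
    have hle : R ⊔ C ≤ (comb (q := q) hP g (Fin.snoc v w)).range := by
      refine sup_le ?_ ?_
      · rintro _ ⟨f, rfl⟩
        refine ⟨Multiplicative.ofAdd (Fin.snoc f.toAdd (fun _ => (0 : ZMod p))), ?_⟩
        rw [comb_apply, Fin.prod_univ_castSucc]
        simp [comb]
      · rintro _ ⟨f, rfl⟩
        refine ⟨Multiplicative.ofAdd (Fin.snoc 0 (f.toAdd 0)), ?_⟩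
        rw [comb_apply, Fin.prod_univ_castSucc]
        simp [comb]
    refine le_trans (le_of_eq ?_) (card_le_of_le hle)
    rw [Cfsg.Lib.Coprime.card_sup_of_inf_eq_bot le_normalizer_of_normal hinf, hv, hCc, ← pow_add]
    congr 1
    ring

theorem ker_eq_constFam (hP : ∀ u : P, u ^ p = 1) {g : G} (hg : g ^ q = 1)
    (hfix : ∀ u : P, MulAut.conjNormal g u = u → u = 1) {j : ℕ} {v : Fin j → P}
    (htop : (comb (q := q) hP g v).range = ⊤) (hcard : Nat.card P = p ^ ((q - 1) * j)) :
    (comb (q := q) hP g v).ker = (AddMonoidHom.toMultiplicative (constFam p q j)).range := by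
  refine (eq_of_le_of_card_ge (constFam_le_ker hP hg hfix v) ?_).symm
  rw [card_constFam]
  refine le_of_eq (Nat.eq_of_mul_eq_mul_left (pow_pos hp.out.pos ((q - 1) * j)) ?_)
  have h := card_range_mul_card_ker (q := q) hP g v
  rw [htop, card_top, hcard] at h
  rw [h, ← pow_add]
  congr 1
  obtain ⟨t, rfl⟩ : ∃ t, q = t + 1 := ⟨q - 1, (Nat.succ_pred_eq_of_pos hq.out.pos).symm⟩
  simp only [Nat.add_sub_cancel]
  ring

/-- The automorphism group is transitive on the pairs. -/
theorem exists_aut (hord : orderOf (p : ZMod q) = q - 1) (hP : ∀ u : P, u ^ p = 1) {g g' : G}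
    (hg : orderOf g = q) (hg' : orderOf g' = q) (hcg : P.IsComplement' (zpowers g))
    (hcg' : P.IsComplement' (zpowers g'))
    (hf : Cfsg.Lib.Frobenius.Fpf (zpowers g) P) (hf' : Cfsg.Lib.Frobenius.Fpf (zpowers g') P)
    {v w : P} (hv : v ≠ 1) (hw : w ≠ 1) :
    ∃ α : MulAut G, α g = g' ∧ α (v : G) = w := by
  classical
  have hgq : g ^ q = 1 := hg ▸ pow_orderOf_eq_one g
  have hgq' : g' ^ q = 1 := hg' ▸ pow_orderOf_eq_one g'
  have hne : ∀ a : G, orderOf a = q → a ≠ 1 := fun a ha h =>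
    hq.out.one_lt.ne (by rw [← ha, h, orderOf_one])
  obtain ⟨j, a, ha0, hatop, hcard⟩ := exists_frame hord hP hg hf hv
  obtain ⟨j', b, hb0, hbtop, hcard'⟩ := exists_frame hord hP hg' hf' hw
  obtain rfl : j = j' := by
    have h := Nat.pow_right_injective hp.out.two_le (hcard.symm.trans hcard')
    have := Nat.eq_of_mul_eq_mul_left (Nat.sub_pos_of_lt hq.out.one_lt) h
    omega
  set ψ := comb (q := q) hP g a with hψ
  set ψ' := comb (q := q) hP g' b with hψ'
  have hker : ψ.ker = ψ'.ker := by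
    rw [hψ, hψ', ker_eq_constFam hP hgq (conj_fix (hne g hg) hf) hatop hcard,
      ker_eq_constFam hP hgq' (conj_fix (hne g' hg') hf') hbtop hcard']
  have hsurj : Function.Surjective ψ := MonoidHom.range_eq_top.mp hatop
  let θ : P →* P := (ψ.liftOfSurjective hsurj) ⟨ψ', hker.le⟩
  have hθ : ∀ f, θ (ψ f) = ψ' f := fun f =>
    MonoidHom.liftOfRightInverse_comp_apply ψ _ (Function.rightInverse_surjInv hsurj) ⟨ψ', hker.le⟩ f
  have hθbij : Function.Bijective θ := by
    refine Finite.surjective_iff_bijective.mp fun y => ?_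
    obtain ⟨f, rfl⟩ := MonoidHom.range_eq_top.mp hbtop y
    exact ⟨ψ f, hθ f⟩
  have hθeq : ∀ (n : ℕ) (u : P),
      θ (MulAut.conjNormal (g ^ n) u) = MulAut.conjNormal (g' ^ n) (θ u) := by
    intro n
    induction n with
    | zero => intro u; simp
    | succ n ih =>
      intro u
      rw [pow_succ', pow_succ', map_mul, map_mul, MulAut.mul_apply, MulAut.mul_apply, ← ih]
      obtain ⟨f, hf0⟩ := hsurj (MulAut.conjNormal (g ^ n) u)
      rw [← hf0, ← ofAdd_toAdd f, ← comb_shift hP hgq, hθ, hθ, hψ', comb_shift hP hgq']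
  have hdec : ∀ x : G, ∃ u : P, ∃ n : ℕ, (u : G) * g ^ n = x := fun x => by
    obtain ⟨⟨u, c⟩, hc⟩ := hcg.2 x
    obtain ⟨n, hn⟩ := (Submonoid.mem_powers_iff _ _).mp
      ((isOfFinOrder_of_finite g).mem_powers_iff_mem_zpowers.mpr c.2)
    exact ⟨u, n, by rw [hn]; exact hc⟩
  choose U N hUN using hdec
  let F : G → G := fun x => (θ (U x) : G) * g' ^ N x
  have hspec : ∀ (u : P) (n : ℕ), F ((u : G) * g ^ n) = (θ u : G) * g' ^ n := by
    intro u n
    have h1 := hUN ((u : G) * g ^ n)
    obtain ⟨h2, h3⟩ := Prod.mk.injEq .. ▸ hcg.1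
      (a₁ := (U ((u : G) * g ^ n), ⟨g ^ N ((u : G) * g ^ n), pow_mem (mem_zpowers g) _⟩))
      (a₂ := (u, ⟨g ^ n, pow_mem (mem_zpowers g) n⟩)) h1
    have h4 : g ^ N ((u : G) * g ^ n) = g ^ n := congrArg Subtype.val h3
    rw [pow_eq_pow_iff_modEq, hg, ← hg', ← pow_eq_pow_iff_modEq] at h4
    simp only [F, h2, h4]
  have hmul : ∀ x y, F (x * y) = F x * F y := fun x y => by
    rw [← hUN x, ← hUN y]
    have h : (U x : G) * g ^ N x * ((U y : G) * g ^ N y) =
        ((U x * MulAut.conjNormal (g ^ N x) (U y) : P) : G) * g ^ (N x + N y) := by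
      rw [Subgroup.coe_mul, MulAut.conjNormal_apply, pow_add]; group
    rw [h, hspec, hspec, hspec, map_mul, hθeq, Subgroup.coe_mul, MulAut.conjNormal_apply, pow_add]
    group
  let Fh : G →* G := MonoidHom.mk' F hmul
  have hFbij : Function.Bijective Fh := by
    refine Finite.surjective_iff_bijective.mp fun y => ?_
    obtain ⟨⟨u, c⟩, hc⟩ := hcg'.2 y
    obtain ⟨n, hn⟩ := (Submonoid.mem_powers_iff _ _).mp
      ((isOfFinOrder_of_finite g').mem_powers_iff_mem_zpowers.mpr c.2)
    obtain ⟨u', hu'⟩ := hθbij.2 u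
    refine ⟨(u' : G) * g ^ n, ?_⟩
    show F _ = y
    rw [hspec, hu', hn]
    exact hc
  refine ⟨MulEquiv.ofBijective Fh hFbij, ?_, ?_⟩
  · show F g = g'
    have h := hspec 1 1
    simpa using h
  · show F v = w
    have h := hspec v 0
    rw [pow_zero, mul_one, pow_zero, mul_one] at h
    rw [h]
    congr 1
    rw [← ha0, ← hb0, ← comb_single (q := q) hP g a 0, hθ]
    exact comb_single hP g' b 0

end Cfsg.Lib.ThreeOrbits
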